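import Cfsg.Agent.H903.SylMeet
import Cfsg.Agent.H903.SylSemi
import Cfsg.Agent.ClassicalGeometry.PSUAutMain

/-!
# Sylow intersections in `PSU`: from the geometric statement (helper177, for S5762)
-/

set_option autoImplicit false

namespace Cfsg.Agent.H177.MeetPSU

open Cfsg Cfsg.Agent.LieClassical.HermBasic Cfsg.Agent.LieClassical.HermSiegel
  Cfsg.Agent.LieClassical.HermGen Cfsg.Agent.LieClassical.SUBasic
  Cfsg.Agent.ClassicalGeometry.UnitAutBasic Cfsg.Agent.LieClassical.FieldTransfer Matrix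
  Cfsg.Agent.ClassicalGeometry.PSUAutCount
open Cfsg.Agent.H903.SylMeet Cfsg.Agent.H903.SylSemi

section

variable {F : Type} [Field F] {n q : ℕ}

/-- the action of `SU` by permutations -/
def rho (n : ℕ) (F : Type) [Field F] (q : ℕ) : SU n F q →* Equiv.Perm (Fin n → F) where
  toFun g :=
    { toFun := act g
      invFun := act g⁻¹
      left_inv := fun v => by rw [← act_mul, inv_mul_cancel, act_one]
      right_inv := fun v => by rw [← act_mul, mul_inv_cancel, act_one] }
  map_one' := by ext1 v; exact act_one v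
  map_mul' g h := by ext1 v; exact act_mul g h v

theorem rho_apply (g : SU n F q) (v : Fin n → F) : rho n F q g v = act g v := rfl

theorem rho_injective : Function.Injective (rho n F q) := fun _ _ h =>
  ext_act fun v => congrArg (fun p : Equiv.Perm (Fin n → F) => p v) h

theorem semi_rho (g : SU n F q) : Semi F (rho n F q g) (RingEquiv.refl F) :=
  ⟨fun u v => by
      change act g (u + v) = act g u + act g v
      exact Matrix.mulVec_add _ _ _, fun a v => by
      change act g (a • v) = a • act g v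
      exact Matrix.mulVec_smul _ _ _⟩

/-- the semilinear map `v ↦ A θ(v)` -/
def yy (A : GU n F q) (θ : F ≃+* F) : Equiv.Perm (Fin n → F) where
  toFun v := gm A *ᵥ fun i => θ (v i)
  invFun w := fun i => θ.symm ((gm A⁻¹ *ᵥ w) i)
  left_inv v := by
    funext i
    change θ.symm ((gm A⁻¹ *ᵥ (gm A *ᵥ fun i => θ (v i))) i) = v i
    rw [gm_inv_mulVec, RingEquiv.symm_apply_apply]
  right_inv w := by
    change gm A *ᵥ (fun i => θ (θ.symm ((gm A⁻¹ *ᵥ w) i))) = w
    simp only [RingEquiv.apply_symm_apply]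
    exact gm_mulVec_inv A w

theorem yy_apply (A : GU n F q) (θ : F ≃+* F) (v : Fin n → F) : yy A θ v = gm A *ᵥ fun i => θ (v i) := rfl

theorem semiU_rho (g : SU n F q) : SemiU F n q (rho n F q g) :=
  ⟨RingEquiv.refl F, 1, one_ne_zero, semi_rho g, fun u v => by
    rw [rho_apply, rho_apply, herm_act, one_mul]; rfl⟩

theorem ind_yy (A : GU n F q) (θ : F ≃+* F) : Ind (pr n F q) (rho n F q) (yy A θ) (toAut A θ) := by
  intro s
  refine ⟨semiConj A θ s, ?_, toAut_pr A θ s⟩
  rw [eq_mul_inv_iff_mul_eq]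
  ext1 v
  exact act_semiConj A θ s v

theorem semiU_yy (A : GU n F q) (θ : F ≃+* F) : SemiU F n q (yy A θ) := by
  refine ⟨θ, 1, one_ne_zero, ⟨fun u v => ?_, fun a v => ?_⟩, fun u v => ?_⟩
  · rw [yy_apply, yy_apply, yy_apply, ← Matrix.mulVec_add]
    congr 1
    funext i
    exact map_add θ _ _
  · rw [yy_apply, yy_apply, ← Matrix.mulVec_smul]
    congr 1
    funext i
    exact map_mul θ _ _
  · rw [one_mul]
    exact herm_semi A θ u v

theorem ind_scal (a : Fˣ) : Ind (pr n F q) (rho n F q) (scal F (Fin n → F) a) 1 := by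
  intro s
  refine ⟨s, ?_, rfl⟩
  rw [eq_mul_inv_iff_mul_eq]
  ext1 v
  exact (semi_rho s).2 _ _

theorem semiU_mul {y y' : Equiv.Perm (Fin n → F)} (h : SemiU F n q y) (h' : SemiU F n q y') :
    SemiU F n q (y * y') := by
  obtain ⟨θ, τ, hτ, h1, h2⟩ := h
  obtain ⟨θ', τ', hτ', h1', h2'⟩ := h'
  refine ⟨θ'.trans θ, τ * θ τ', mul_ne_zero hτ ((map_ne_zero θ).2 hτ'), ⟨fun u v => ?_, fun a v => ?_⟩, fun u v => ?_⟩
  · rw [Equiv.Perm.mul_apply, Equiv.Perm.mul_apply, Equiv.Perm.mul_apply, h1'.1, h1.1]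
  · rw [Equiv.Perm.mul_apply, Equiv.Perm.mul_apply, h1'.2, h1.2]
    rfl
  · rw [Equiv.Perm.mul_apply, Equiv.Perm.mul_apply, h2, h2', map_mul, mul_assoc]
    rfl

theorem semiU_scal (a : Fˣ) : SemiU F n q (scal F (Fin n → F) a) := by
  refine ⟨RingEquiv.refl F, a * (a : F) ^ q, mul_ne_zero a.ne_zero (pow_ne_zero _ a.ne_zero), ⟨fun u v => ?_, fun b v => ?_⟩,
    fun u v => ?_⟩
  · rw [scal_apply, scal_apply, scal_apply, smul_add]
  · rw [scal_apply, scal_apply, smul_comm]
    rfl
  · rw [scal_apply, scal_apply, herm_smul_left, herm_smul_right, mul_assoc]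
    rfl

theorem yy_one : yy (1 : GU n F q) (RingEquiv.refl F) = 1 := by
  ext1 v
  rw [yy_apply, gm_one, Matrix.one_mulVec]
  rfl

variable [Fintype F]

omit [Fintype F] in
theorem toAut_one : toAut (1 : GU n F q) (RingEquiv.refl F) = 1 :=
  Ind.unique pr_surjective rho_injective (ind_yy 1 (RingEquiv.refl F)) (by
    rw [yy_one]
    exact Ind.one _ _)

theorem uniq (hF : Fintype.card F = q ^ 2) (hn : 3 ≤ n) {y : Equiv.Perm (Fin n → F)} (hy : SemiU F n q y)
    (hI : Ind (pr n F q) (rho n F q) y 1) : ∃ a : Fˣ, y = scal F (Fin n → F) a := by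
  obtain ⟨θ, τ, hτ, h1, h2⟩ := hy
  let L : (Fin n → F) →ₗ[F] (Fin n → F) :=
    { toFun := fun v => y fun i => θ.symm (v i)
      map_add' := fun u v => by
        rw [← h1.1]
        congr 1
        funext i
        exact map_add θ.symm _ _
      map_smul' := fun c v => by
        have h3 : (fun i => θ.symm ((c • v) i)) = θ.symm c • fun i => θ.symm (v i) := by
          funext i
          exact map_mul θ.symm _ _
        rw [h3, h1.2, RingEquiv.apply_symm_apply]
        rfl }
  set M := LinearMap.toMatrix' L with hM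
  have hMv : ∀ v, M *ᵥ v = y fun i => θ.symm (v i) := fun v => by
    rw [hM, LinearMap.toMatrix'_mulVec]
    rfl
  have hyM : ∀ v, y v = M *ᵥ fun i => θ (v i) := fun v => by
    rw [hMv]
    simp only [RingEquiv.symm_apply_apply]
  have hherm : ∀ u v, hermForm n F q (M *ᵥ u) (M *ᵥ v) = τ * hermForm n F q u v := by
    intro u v
    rw [hMv, hMv, h2, herm_map, RingEquiv.apply_symm_apply]
  -- `τ` is fixed by the involution
  obtain ⟨e, he⟩ : ∃ e : Fin n → F, hermForm n F q e e = 1 := by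
    have hq : 0 < q := by
      rcases Nat.eq_zero_or_pos q with h0 | h0
      · rw [h0] at hF
        norm_num at hF
      · exact h0
    refine ⟨Pi.single ⟨0, by omega⟩ 1, ?_⟩
    unfold hermForm
    rw [Finset.sum_eq_single (⟨0, by omega⟩ : Fin n)]
    · simp
    · intro b _ hb
      simp [hb]
    · intro h
      exact absurd (Finset.mem_univ _) h
  have hτq : τ ^ q = τ := by
    have h3 := hherm e e
    rw [he, mul_one] at h3
    rw [← h3, ← herm_swap hF]
  obtain ⟨l, hl0, hl⟩ := exists_norm_eq_ne hF hτq hτ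
  obtain ⟨A0, hA0, hA⟩ := ClassicalGeometry.HermOrtho.exists_GU_of_isometry (M := l⁻¹ • M) hF (fun u v => by
    rw [Matrix.smul_mulVec, Matrix.smul_mulVec, herm_smul_left, herm_smul_right, hherm, ← hl, inv_pow]
    field_simp)
  let A : GU n F q := ⟨A0, hA0⟩
  have hgA : gm A = l⁻¹ • M := hA
  have hy2 : y = scal F (Fin n → F) (Units.mk0 l hl0) * yy A θ := by
    ext1 v
    rw [Equiv.Perm.mul_apply, scal_apply, yy_apply, hgA, Matrix.smul_mulVec, smul_smul, Units.val_mk0,
      mul_inv_cancel₀ hl0, one_smul, hyM]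
  have h3 : Ind (pr n F q) (rho n F q) y (1 * toAut A θ) := by
    rw [hy2]
    exact (ind_scal _).mul (ind_yy A θ)
  have h4 : toAut (1 : GU n F q) (RingEquiv.refl F) = toAut A θ := by
    rw [toAut_one]
    exact (Ind.unique pr_surjective rho_injective hI (by rwa [one_mul] at h3))
  obtain ⟨h5, c, hc, h6⟩ := eq_of_toAut_eq hF hn h4
  have hc0 : c ≠ 0 := by
    rintro rfl
    rw [zero_mul] at hc
    exact zero_ne_one hc
  refine ⟨Units.mk0 (l * c) (mul_ne_zero hl0 hc0), ?_⟩
  rw [hy2]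
  ext1 v
  rw [Equiv.Perm.mul_apply, scal_apply, scal_apply, yy_apply, h6, gm_one, h5, Matrix.smul_mulVec, Matrix.one_mulVec,
    smul_smul]
  rfl

omit [Fintype F] in
theorem exists_su {g : Equiv.Perm (Fin n → F)} (hg : IsSUMap F n q g) : ∃ s : SU n F q, rho n F q s = g := by
  obtain ⟨⟨f, hf, hd⟩, hh⟩ := hg
  have hdet : (LinearMap.toMatrix' f).det = 1 := by rw [LinearMap.det_toMatrix', hd]
  refine ⟨⟨⟨LinearMap.toMatrix' f, hdet⟩,
    (Cfsg.Agent.LieClassical.HermBasic.mem_SU_iff _).2 fun u v => ?_⟩, ?_⟩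
  · change hermForm n F q (LinearMap.toMatrix' f *ᵥ u) (LinearMap.toMatrix' f *ᵥ v) = _
    rw [LinearMap.toMatrix'_mulVec, LinearMap.toMatrix'_mulVec, hf, hf, hh]
  · ext1 v
    change LinearMap.toMatrix' f *ᵥ v = g v
    rw [LinearMap.toMatrix'_mulVec, hf]

end

/-- **The row `PSU` of S5762 from the geometric statement.** -/
theorem meet_PSU {p n q : ℕ} [Fact p.Prime] (hp : 5 ≤ p) {F : Type} [Field F] [Fintype F]
    (hF : Fintype.card F = q ^ 2) (hn : 3 ≤ n) (h2 : ¬ (n = 3 ∧ q = 2))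
    (h : Cfsg.Agent.H903.SylSemi.SepSU p F n q) : Cfsg.Agent.H903.SylMeet.Meet p (Cfsg.PSU n F q) := by
  intro P hP
  refine good_of_sep (π := pr n F q) pr_surjective (ρ := rho n F q) rho_injective (Y := SemiU F n q)
    ?_ (fun _ _ => semiU_mul) semiU_scal ?_ semi_rho semiU_rho hP ?_ (fun y => uniq hF hn) (fun g => exists_su) h
  · have h1 := semiU_rho (1 : SU n F q)
    rwa [map_one] at h1
  · rintro y ⟨θ, τ, -, h1, -⟩
    exact ⟨θ, h1⟩
  · intro β _
    obtain ⟨A, θ, rfl⟩ := ClassicalGeometry.PSUAutMain.exists_toAut hF hn h2 β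
    exact ⟨yy A θ, semiU_yy A θ, ind_yy A θ⟩

end Cfsg.Agent.H177.MeetPSU
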