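import Cfsg.Agent.H177.AARow2
import Cfsg.Agent.H587.AA.Cyc

/-!
# `AA` problem: Sylow subgroups of prime order (helper177)

`noA_cyc` : `K` simple of order `N * M`, `p ^ 2 ∤ |K|`, `M ^ 2 ≤ |K|`, and elements of order `p` commute with no element of
prime order dividing `N`.
-/

set_option autoImplicit false

namespace Cfsg.Agent.H177.AACyc

open Subgroup Cfsg Cfsg.Agent.H177.AARow Cfsg.Agent.H460.AA Cfsg.Agent.H459.Rad

theorem card_cent_dvd {G : Type*} [Group G] [Finite G] {a : G} {N M : ℕ} (hc : Nat.card G = N * M)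
    (h : ∀ q : ℕ, q.Prime → q ∣ N → ∀ y : G, orderOf y = q → a * y ≠ y * a) :
    Nat.card ↥(centralizer ({a} : Set G)) ∣ M := by
  have h1 : Nat.Coprime (Nat.card ↥(centralizer ({a} : Set G))) N := by
    rw [Nat.coprime_iff_gcd_eq_one]
    by_contra hne
    obtain ⟨q, hq, hqd⟩ := Nat.exists_prime_and_dvd hne
    have : Fact q.Prime := ⟨hq⟩
    obtain ⟨y, hy⟩ := exists_prime_orderOf_dvd_card' q (hqd.trans (Nat.gcd_dvd_left _ _))
    refine h q hq (hqd.trans (Nat.gcd_dvd_right _ _)) y (by rw [← hy]; exact Subgroup.orderOf_coe y) ?_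
    exact (mem_centralizer_singleton_iff.1 y.2).symm
  exact h1.dvd_of_dvd_mul_left (hc ▸ card_subgroup_dvd_card _)

theorem noA_cyc {K : Type*} [Group K] [Finite K] [IsSimpleGroup K] {p N M : ℕ} (hp : p.Prime) (hp2 : p ≠ 2)
    (hc : Nat.card K = N * M) (hnp : ¬ (Nat.card K).Prime) (hpc : p ∣ Nat.card K) (hpp : ¬ p ^ 2 ∣ Nat.card K)
    (hM : M ^ 2 ≤ N * M)
    (h : ∀ q : ℕ, q.Prime → q ∣ N → ∀ x y : K, orderOf x = p → orderOf y = q → x * y ≠ y * x) : NoA p K := by
  have hpf : Fact p.Prime := ⟨hp⟩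
  intro a ha _ hP
  have hna : ¬ IsMulCommutative K := by
    intro hm
    let _ : CommGroup K := { (inferInstance : Group K) with mul_comm := hm.is_comm.comm }
    exact hnp IsSimpleGroup.prime_card
  have hS : ∀ P : Sylow p K, Nat.card P = p := by
    intro P
    rw [P.card_eq_multiplicity]
    have h1 : (Nat.card K).factorization p = 1 := by
      refine le_antisymm ?_ ?_
      · by_contra hlt
        exact hpp ((pow_dvd_pow p (by omega)).trans (Nat.ordProj_dvd (Nat.card K) p))
      · exact (hp.dvd_iff_one_le_factorization Nat.card_pos.ne').1 hpc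
    rw [h1, pow_one]
  obtain ⟨g, hg⟩ := Cfsg.Agent.H587.AA.pa_cyc hna hp2 hS ha (by
    have h1 := card_cent_dvd (a := a) hc fun q hq hqN y hy => h q hq hqN a y ha hy
    rw [hc]
    refine le_trans (Nat.pow_le_pow_left (Nat.le_of_dvd ?_ h1) 2) hM
    rcases Nat.eq_zero_or_pos M with h0 | h0
    · rw [h0, mul_zero] at hc
      exact absurd hc Nat.card_pos.ne'
    · exact h0)
  exact hg (hP g)

end Cfsg.Agent.H177.AACyc
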