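import Cfsg.Agent.H177.AARow2
import Cfsg.Agent.TypeM.FactsMcL
import Cfsg.Agent.Schreier.CoTwoStab
import Cfsg.Agent.Co2Type.CardCo2
import Cfsg.Agent.KFacts.CoTwo.QuotInst
import Cfsg.Agent.H393.Iso.Co2
import Cfsg.Agent.H177.AACyc
import Cfsg.Agent.H149.Sp.Leech

/-!
# `AA` problem: `Co2` (helper177)
-/

set_option autoImplicit false

namespace Cfsg.Agent.H177.AACo2

open Subgroup Cfsg Cfsg.Agent.H177.AARow Cfsg.Agent.H177.AARow2 Cfsg.Agent.H460.AA Cfsg.Agent.H459.Rad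

theorem card_McL : Nat.card Spor.McL = 898128000 := by
  obtain ⟨-, -, h, -⟩ := Cfsg.Agent.TypeM.FactsMcL.facts (M := Spor.McL) ⟨MulEquiv.refl _⟩
  exact h

theorem simple_McL : IsSimpleGroup Spor.McL := by
  obtain ⟨-, h, -, -⟩ := Cfsg.Agent.TypeM.FactsMcL.facts (M := Spor.McL) ⟨MulEquiv.refl _⟩
  exact h

theorem McL_le_Co2 : Spor.McL ≤ Spor.Co2 := fun _ hx => ⟨hx.1.1, hx.2⟩

theorem dat_co2 {K : Type*} [Group K] (h : Spor.IsoCo2 K) : Cfsg.Agent.BpSpor.Dat K 42305421312000 where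
  simple := by
    obtain ⟨e⟩ := h
    exact (MulEquiv.isSimpleGroup_congr e).2 Cfsg.Agent.Schreier.CoTwoStab.isSimpleGroup
  card := by
    obtain ⟨e⟩ := h
    rw [Nat.card_congr e.toEquiv, Cfsg.Agent.Co2Type.CardCo2.card_co2]
  inn := by
    obtain ⟨e⟩ := h
    have := Cfsg.Agent.Schreier.CoTwoStab.finite
    exact Cfsg.Agent.BpSpor.Inn.OddInn.congr e
      (Cfsg.Agent.BpSpor.Inn.of_inner fun α => Cfsg.Agent.KFacts.CoTwo.QuotInst.dataT.allInner α)

theorem noA_mcl {p : ℕ} (hp : p.Prime) (hi : ¬ p ∣ 47104) : NoA p Spor.Co2 :=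
  noA_le McL_le_Co2 card_McL Cfsg.Agent.Co2Type.CardCo2.card_co2 simple_McL (by norm_num) (by norm_num) (by norm_num)
    hp (by norm_num; exact hi)

theorem Co2_le : Spor.Co2 ≤ Co0 := fun _ hx => hx.1

theorem order_incl (x : Spor.Co2) : orderOf (⟨x, Co2_le x.2⟩ : Co0) = orderOf x := by
  rw [← Subgroup.orderOf_coe x, Subgroup.orderOf_mk]

theorem ncomm {x y : Spor.Co2} {q : ℕ} (h : q = 5 ∨ q = 7 ∨ q = 11) (hx : orderOf x = 23)
    (hy : orderOf y = q) : x * y ≠ y * x := by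
  intro hc
  have hx' := order_incl x
  have hy' := order_incl y
  rw [hx] at hx'
  rw [hy] at hy'
  have hc' : (⟨y, Co2_le y.2⟩ : Co0) * ⟨x, Co2_le x.2⟩ = ⟨x, Co2_le x.2⟩ * ⟨y, Co2_le y.2⟩ :=
    Subtype.ext (congrArg (fun z : Spor.Co2 => (z : Equiv.Perm leechLattice)) hc).symm
  refine Cfsg.Agent.H149.Sp.co0_not_comm ?_ (Or.inr (Or.inr (Or.inr (Or.inr rfl)))) ?_ ?_ hy' hx' hc'
  · rcases h with rfl | rfl | rfl
    · exact Or.inl rfl
    · exact Or.inr (Or.inl rfl)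
    · exact Or.inr (Or.inr (Or.inl rfl))
  · omega
  · omega

theorem noA_23 : NoA 23 Spor.Co2 := by
  have hf : Finite Spor.Co2 := Cfsg.Agent.Co2Type.CardCo2.finite_co2
  have hs : IsSimpleGroup Spor.Co2 := (dat_co2 (K := Spor.Co2) ⟨MulEquiv.refl _⟩).simple
  have hc : Nat.card Spor.Co2 = 42305421312000 := Cfsg.Agent.Co2Type.CardCo2.card_co2
  refine Cfsg.Agent.H177.AACyc.noA_cyc (N := 2 ^ 18 * 5 ^ 3 * 7 * 11) (M := 3 ^ 6 * 23) (by norm_num) (by norm_num)
    (by rw [hc]; norm_num) (by rw [hc]; norm_num) (by rw [hc]; norm_num) (by rw [hc]; norm_num) (by norm_num) ?_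
  intro q hq hqN x y hx hy
  have h1 : q = 2 ∨ q = 5 ∨ q = 7 ∨ q = 11 := by
    rcases (Nat.Prime.dvd_mul hq).1 hqN with h | h
    · rcases (Nat.Prime.dvd_mul hq).1 h with h | h
      · rcases (Nat.Prime.dvd_mul hq).1 h with h | h
        · exact Or.inl ((Nat.prime_dvd_prime_iff_eq hq Nat.prime_two).1 (hq.dvd_of_dvd_pow h))
        · exact Or.inr (Or.inl ((Nat.prime_dvd_prime_iff_eq hq Nat.prime_five).1 (hq.dvd_of_dvd_pow h)))
      · exact Or.inr (Or.inr (Or.inl ((Nat.prime_dvd_prime_iff_eq hq (by norm_num)).1 h)))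
    · exact Or.inr (Or.inr (Or.inr ((Nat.prime_dvd_prime_iff_eq hq (by norm_num)).1 h)))
  rcases h1 with rfl | h1
  · exact Cfsg.Agent.H393.Iso.na_co2_model x y hx hy
  · exact ncomm h1 hx hy

theorem core_co2 {K : Type*} [Group K] (h : Spor.IsoCo2 K) : Core K := by
  have hf : Finite K := Nat.finite_of_card_ne_zero (by
    rw [(dat_co2 h).card]; norm_num)
  have e : K ≃* Spor.Co2 := h.some
  refine core_of_dat (dat_co2 h) (l := [(2, 18), (3, 6), (5, 3), (7, 1), (11, 1), (23, 1)])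
    (by decide +kernel) (by norm_num) (fun x hx hx2 _ => ?_)
  simp only [List.mem_cons, List.not_mem_nil, or_false] at hx
  rcases hx with rfl | rfl | rfl | rfl | rfl | rfl
  · exact absurd rfl hx2
  · exact (noA_mcl (by norm_num) (by norm_num)).of_equiv e
  · exact (noA_mcl (by norm_num) (by norm_num)).of_equiv e
  · exact (noA_mcl (by norm_num) (by norm_num)).of_equiv e
  · exact (noA_mcl (by norm_num) (by norm_num)).of_equiv e
  · exact noA_23.of_equiv e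

end Cfsg.Agent.H177.AACo2
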