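import Cfsg.Agent.SigZeroCo2.Lin
import Cfsg.Agent.S1578
import Cfsg.Agent.S1579
import Cfsg.Agent.S1580
import Cfsg.Agent.S0391
import Cfsg.Agent.S0392
import Cfsg.Agent.S0404

/-!
# The 552 vectors of the `Co3` configuration (helper177)

`u` of norm `48`, `X u` the lattice vectors `x` with `|x|^2 = |u - x|^2 = 32`.  The vectors `w_x = 2 x - u` form a tight frame
of `u^⊥`; hence an element of `Co0` fixing `u` has no constant value `x · a x` on `X u`.
-/

set_option autoImplicit false

namespace Cfsg.Agent.H177.AACo3b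

open Cfsg Cfsg.Agent.SporadicStructure.Co0Base Cfsg.Agent.SigZeroCo2.Lin

/-- the dot product of lattice vectors -/
abbrev dt (x y : leechLattice) : ℤ := dotInt (x : GolayPt → ℤ) (y : GolayPt → ℤ)

theorem dt_comm (x y : leechLattice) : dt x y = dt y x := by
  unfold dt dotInt
  exact Finset.sum_congr rfl fun i _ => mul_comm _ _

theorem dt_self (x : leechLattice) : dt x x = sqNorm (x : GolayPt → ℤ) := by
  unfold dt dotInt sqNorm
  exact Finset.sum_congr rfl fun i _ => (pow_two _).symm

theorem dt_sub_left (x y z : leechLattice) : dt (x - y) z = dt x z - dt y z := by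
  unfold dt dotInt
  rw [← Finset.sum_sub_distrib]
  exact Finset.sum_congr rfl fun i _ => by
    rw [AddSubgroup.coe_sub, Pi.sub_apply, sub_mul]

theorem dt_sub_right (x y z : leechLattice) : dt z (x - y) = dt z x - dt z y := by
  rw [dt_comm, dt_sub_left, dt_comm x, dt_comm y]

theorem dt_smul (g : Co0) (x y : leechLattice) : dt (g • x) (g • y) = dt x y := co0_dotInt g x y

theorem dt_sub_sub (x y : leechLattice) : dt (x - y) (x - y) = dt x x + dt y y - 2 * dt x y := by
  rw [dt_sub_left, dt_sub_right, dt_sub_right, dt_comm y x]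
  ring

theorem dt_min {x : leechLattice} (h : x ≠ 0) : 32 ≤ dt x x := by
  rw [dt_self]
  exact Cfsg.Agent.S0391.result x x.2 fun h0 => h (Subtype.ext h0)

theorem dt_even (x : leechLattice) : (16 : ℤ) ∣ dt x x := by
  rw [dt_self]
  exact Cfsg.Agent.S0392.result x x.2

/-- the set of the 552 vectors -/
def X (u : leechLattice) : Set leechLattice := {x | dt x x = 32 ∧ dt (u - x) (u - x) = 32}

variable {u : leechLattice} (hu : dt u u = 48)

theorem X_eq : X u = {v : leechLattice | sqNorm (v : GolayPt → ℤ) = 32 ∧ sqNorm ((u - v) : GolayPt → ℤ) = 32} := by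
  ext v
  change dt v v = 32 ∧ dt (u - v) (u - v) = 32 ↔ _
  rw [dt_self, dt_self]
  rfl

include hu

theorem X_ncard : (X u).ncard = 552 := by
  rw [X_eq]
  exact Cfsg.Agent.S1578.result u (by rw [← dt_self]; exact hu)

theorem X_dot {x : leechLattice} (hx : x ∈ X u) : dt u x = 24 := by
  have h := hx.2
  rw [dt_sub_sub, hu, hx.1] at h
  omega

omit hu in
theorem X_compl {x : leechLattice} (hx : x ∈ X u) : u - x ∈ X u := by
  refine ⟨hx.2, ?_⟩
  rw [sub_sub_cancel]
  exact hx.1

/-- the possible inner products -/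
theorem X_cases {x y : leechLattice} (hx : x ∈ X u) (hy : y ∈ X u) :
    x = y ∨ y = u - x ∨ dt x y = 16 ∨ dt x y = 8 := by
  by_cases h1 : x = y
  · exact Or.inl h1
  by_cases h2 : y = u - x
  · exact Or.inr (Or.inl h2)
  right; right
  have h3 := dt_min (sub_ne_zero.2 h1)
  have h4 := dt_min (sub_ne_zero.2 h2)
  have h5 := dt_even (x - y)
  rw [dt_sub_sub, hx.1, hy.1] at h3 h5
  rw [dt_sub_sub, hy.1, hx.2, dt_sub_right, dt_comm y u, X_dot hu hy, dt_comm y x] at h4
  omega

theorem X_ne {x : leechLattice} (hx : x ∈ X u) : u - x ≠ x := by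
  intro h
  have h1 := X_dot hu hx
  have h2 : dt (u - x) x = dt x x := by rw [h]
  rw [dt_sub_left, h1, hx.1] at h2
  omega

theorem X_fin : (X u).Finite := Set.finite_of_ncard_ne_zero (by rw [X_ncard hu]; norm_num)

omit hu in
/-- the vector `2 x - u` -/
def w (u x : leechLattice) : GolayPt → ℚ := fun i => 2 * toV x i - toV u i

omit hu in
theorem dt_cast (x y : leechLattice) : ((dt x y : ℤ) : ℚ) = ∑ i, toV x i * toV y i := by
  unfold dt dotInt toV
  push_cast
  rfl

omit hu in
theorem w_dot (x y : leechLattice) : ∑ i, w u x i * w u y i = ((4 * dt x y - 2 * dt u x - 2 * dt u y + dt u u : ℤ) : ℚ) := by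
  push_cast
  rw [dt_cast, dt_cast, dt_cast, dt_cast, Finset.mul_sum, Finset.mul_sum, Finset.mul_sum, ← Finset.sum_sub_distrib,
    ← Finset.sum_sub_distrib, ← Finset.sum_add_distrib]
  refine Finset.sum_congr rfl fun i _ => ?_
  unfold w
  ring

omit hu in
theorem w_dot_u (x : leechLattice) : ∑ i, w u x i * toV u i = ((2 * dt u x - dt u u : ℤ) : ℚ) := by
  push_cast
  rw [dt_cast, dt_cast, Finset.mul_sum, ← Finset.sum_sub_distrib]
  refine Finset.sum_congr rfl fun i _ => ?_
  unfold w
  ring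

theorem w_self {x : leechLattice} (hx : x ∈ X u) : ∑ i, w u x i * w u x i = 80 := by
  rw [w_dot, X_dot hu hx, hx.1, hu]
  norm_num

theorem w_u {x : leechLattice} (hx : x ∈ X u) : ∑ i, w u x i * toV u i = 0 := by
  rw [w_dot_u, X_dot hu hx, hu]
  norm_num

open Classical in
theorem w_sq {x y : leechLattice} (hx : x ∈ X u) (hy : y ∈ X u) :
    (∑ i, w u x i * w u y i) * (∑ i, w u x i * w u y i) =
      256 + (if y = x then 6144 else 0) + (if y = u - x then 6144 else 0) := by
  have hne := X_ne hu hx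
  rw [w_dot, X_dot hu hx, X_dot hu hy, hu]
  rcases X_cases hu hx hy with h | h | h | h
  · subst h
    rw [if_pos rfl, if_neg (fun h => hne h.symm), hx.1]
    norm_num
  · subst h
    rw [if_neg hne, if_pos rfl, dt_sub_right, dt_comm x u, X_dot hu hx, hx.1]
    norm_num
  · have h1 : y ≠ x := by
      rintro rfl
      rw [hx.1] at h
      omega
    have h2 : y ≠ u - x := by
      rintro rfl
      rw [dt_sub_right, dt_comm x u, X_dot hu hx, hx.1] at h
      omega
    rw [if_neg h1, if_neg h2, h]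
    norm_num
  · have h1 : y ≠ x := by
      rintro rfl
      rw [hx.1] at h
      omega
    have h2 : y ≠ u - x := by
      rintro rfl
      rw [dt_sub_right, dt_comm x u, X_dot hu hx, hx.1] at h
      omega
    rw [if_neg h1, if_neg h2, h]
    norm_num

/-- the vectors as a finite set -/
noncomputable def T : Finset leechLattice := (X_fin hu).toFinset

theorem mem_T {x : leechLattice} : x ∈ T hu ↔ x ∈ X u := Set.Finite.mem_toFinset _

theorem T_card : (T hu).card = 552 := by
  rw [← X_ncard hu, Set.ncard_eq_toFinset_card _ (X_fin hu)]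
  rfl

/-- the frame matrix -/
noncomputable def S (i j : GolayPt) : ℚ := ∑ x ∈ T hu, w u x i * w u x j

omit hu in
theorem quad_sum {ι κ : Type*} [Fintype κ] (R : Finset ι) (a : ι → κ → ℚ) :
    ∑ i, ∑ j, (∑ x ∈ R, a x i * a x j) * (∑ x ∈ R, a x i * a x j) =
      ∑ x ∈ R, ∑ y ∈ R, (∑ i, a x i * a y i) * (∑ i, a x i * a y i) := by
  simp only [Finset.sum_mul_sum]
  calc ∑ i, ∑ j, ∑ x ∈ R, ∑ y ∈ R, a x i * a x j * (a y i * a y j)
      = ∑ i, ∑ x ∈ R, ∑ j, ∑ y ∈ R, a x i * a x j * (a y i * a y j) :=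
        Finset.sum_congr rfl fun i _ => Finset.sum_comm
    _ = ∑ x ∈ R, ∑ i, ∑ j, ∑ y ∈ R, a x i * a x j * (a y i * a y j) := Finset.sum_comm
    _ = ∑ x ∈ R, ∑ i, ∑ y ∈ R, ∑ j, a x i * a x j * (a y i * a y j) :=
        Finset.sum_congr rfl fun x _ => Finset.sum_congr rfl fun i _ => Finset.sum_comm
    _ = ∑ x ∈ R, ∑ y ∈ R, ∑ i, ∑ j, a x i * a x j * (a y i * a y j) :=
        Finset.sum_congr rfl fun x _ => Finset.sum_comm
    _ = _ := Finset.sum_congr rfl fun x _ => Finset.sum_congr rfl fun y _ =>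
        Finset.sum_congr rfl fun i _ => Finset.sum_congr rfl fun j _ => by ring

theorem sum_S_sq : ∑ i, ∑ j, S hu i j * S hu i j = 84787200 := by
  have h1 : ∑ i, ∑ j, S hu i j * S hu i j =
      ∑ x ∈ T hu, ∑ y ∈ T hu, (∑ i, w u x i * w u y i) * (∑ i, w u x i * w u y i) := by
    unfold S
    exact quad_sum (T hu) (w u)
  rw [h1]
  have h2 : ∀ x ∈ T hu, ∑ y ∈ T hu, (∑ i, w u x i * w u y i) * (∑ i, w u x i * w u y i) = 153600 := by
    classical
    intro x hx
    have hx' := (mem_T hu).1 hx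
    rw [Finset.sum_congr rfl fun y hy => w_sq hu hx' ((mem_T hu).1 hy), Finset.sum_add_distrib, Finset.sum_add_distrib,
      Finset.sum_const, T_card, Finset.sum_ite_eq', Finset.sum_ite_eq', if_pos hx,
      if_pos ((mem_T hu).2 (X_compl hx'))]
    norm_num
  rw [Finset.sum_congr rfl h2, Finset.sum_const, T_card]
  norm_num

theorem sum_S_diag : ∑ i, S hu i i = 44160 := by
  unfold S
  rw [Finset.sum_comm, Finset.sum_congr rfl fun x hx => w_self hu ((mem_T hu).1 hx), Finset.sum_const, T_card]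
  norm_num

theorem sum_S_u : ∑ i, ∑ j, S hu i j * (toV u i * toV u j) = 0 := by
  have h1 : ∑ i, ∑ j, S hu i j * (toV u i * toV u j) = ∑ x ∈ T hu, (∑ i, w u x i * toV u i) * (∑ i, w u x i * toV u i) := by
    unfold S
    calc ∑ i, ∑ j, (∑ x ∈ T hu, w u x i * w u x j) * (toV u i * toV u j)
        = ∑ i, ∑ j, ∑ x ∈ T hu, w u x i * w u x j * (toV u i * toV u j) :=
          Finset.sum_congr rfl fun i _ => Finset.sum_congr rfl fun j _ => Finset.sum_mul _ _ _
      _ = ∑ i, ∑ x ∈ T hu, ∑ j, w u x i * w u x j * (toV u i * toV u j) :=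
          Finset.sum_congr rfl fun i _ => Finset.sum_comm
      _ = ∑ x ∈ T hu, ∑ i, ∑ j, w u x i * w u x j * (toV u i * toV u j) := Finset.sum_comm
      _ = _ := Finset.sum_congr rfl fun x _ => by
          rw [Finset.sum_mul_sum]
          exact Finset.sum_congr rfl fun i _ => Finset.sum_congr rfl fun j _ => by ring
  rw [h1]
  exact Finset.sum_eq_zero fun x hx => by rw [w_u hu ((mem_T hu).1 hx), zero_mul]

theorem u_sq : ∑ i, toV u i * toV u i = 48 := by
  rw [← dt_cast, hu]
  norm_num

/-- **the tight frame** -/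
theorem frame (i j : GolayPt) : S hu i j = (if i = j then 1920 else 0) - 40 * (toV u i * toV u j) := by
  have key : ∑ i, ∑ j, (S hu i j - (if i = j then 1920 else 0) + 40 * (toV u i * toV u j)) ^ 2 = 0 := by
    have h0 : ∀ i j : GolayPt, (S hu i j - (if i = j then 1920 else 0) + 40 * (toV u i * toV u j)) ^ 2 =
        S hu i j * S hu i j + 80 * (S hu i j * (toV u i * toV u j)) +
          1600 * ((toV u i * toV u i) * (toV u j * toV u j)) +
          (if i = j then 3686400 - 3840 * S hu i j - 153600 * (toV u i * toV u j) else 0) := by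
      intro i j
      by_cases h : i = j
      · rw [if_pos h, if_pos h]; ring
      · rw [if_neg h, if_neg h]; ring
    simp only [h0, Finset.sum_add_distrib, Finset.sum_ite_eq, Finset.mem_univ, if_true, Finset.sum_sub_distrib,
      ← Finset.mul_sum, Finset.sum_const]
    rw [sum_S_sq, sum_S_u, sum_S_diag]
    have h1 : ∑ i, toV u i * toV u i * ∑ j, toV u j * toV u j = 48 * 48 := by
      rw [u_sq hu, ← Finset.sum_mul, u_sq hu]
    rw [h1, u_sq hu]
    norm_num
  have h1 := (Finset.sum_eq_zero_iff_of_nonneg (fun i _ => Finset.sum_nonneg fun j _ => sq_nonneg _)).1 key i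
    (Finset.mem_univ i)
  have h2 := (Finset.sum_eq_zero_iff_of_nonneg (fun j _ => sq_nonneg _)).1 h1 j (Finset.mem_univ j)
  have h3 := pow_eq_zero_iff (two_ne_zero) |>.1 h2
  linarith

omit hu in
theorem mat_mulVec (a : Co0) (x : leechLattice) (i : GolayPt) : ∑ j, mat a i j * toV x j = toV (a • x) i := by
  have h := congrFun (rep_toV a x) i
  rw [← h]
  change _ = (Matrix.toLin' (mat a) (toV x)) i
  rw [Matrix.toLin'_apply, Matrix.mulVec, dotProduct]

omit hu in
theorem w_smul {a : Co0} (ha : a • u = u) (x : leechLattice) (i : GolayPt) : w u (a • x) i = ∑ j, mat a i j * w u x j := by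
  unfold w
  rw [← mat_mulVec]
  have h : toV u i = ∑ j, mat a i j * toV u j := by rw [mat_mulVec, ha]
  rw [h, Finset.mul_sum, ← Finset.sum_sub_distrib]
  exact Finset.sum_congr rfl fun j _ => by ring

omit hu in
theorem tr_mat (a : Co0) : ∑ i, mat a i i = (Cfsg.Agent.Co2Type.Mono.tr8 a : ℚ) / 8 := by
  unfold mat Cfsg.Agent.Co2Type.Mono.tr8
  rw [← Finset.sum_div]
  push_cast
  rfl

/-- **the trace of an element fixing `u`** -/
theorem trace_sum {a : Co0} (ha : a • u = u) :
    ∑ x ∈ T hu, ∑ i, w u (a • x) i * w u x i = 240 * ((Cfsg.Agent.Co2Type.Mono.tr8 a : ℚ) - 8) := by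
  have h1 : ∑ x ∈ T hu, ∑ i, w u (a • x) i * w u x i = ∑ i, ∑ j, mat a i j * S hu i j := by
    unfold S
    calc ∑ x ∈ T hu, ∑ i, w u (a • x) i * w u x i
        = ∑ x ∈ T hu, ∑ i, ∑ j, mat a i j * (w u x i * w u x j) :=
          Finset.sum_congr rfl fun x _ => Finset.sum_congr rfl fun i _ => by
            rw [w_smul ha, Finset.sum_mul]
            exact Finset.sum_congr rfl fun j _ => by ring
      _ = ∑ i, ∑ x ∈ T hu, ∑ j, mat a i j * (w u x i * w u x j) := Finset.sum_comm
      _ = ∑ i, ∑ j, ∑ x ∈ T hu, mat a i j * (w u x i * w u x j) :=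
          Finset.sum_congr rfl fun i _ => Finset.sum_comm
      _ = _ := Finset.sum_congr rfl fun i _ => Finset.sum_congr rfl fun j _ => (Finset.mul_sum _ _ _).symm
  rw [h1]
  have h2 : ∑ i, ∑ j, mat a i j * S hu i j = 1920 * ∑ i, mat a i i - 40 * ∑ i, toV u i * toV u i := by
    rw [Finset.mul_sum, Finset.mul_sum, ← Finset.sum_sub_distrib]
    refine Finset.sum_congr rfl fun i _ => ?_
    have h3 : ∑ j, mat a i j * S hu i j = ∑ j, ((if i = j then 1920 * mat a i j else 0) -
        40 * toV u i * (mat a i j * toV u j)) := by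
      refine Finset.sum_congr rfl fun j _ => ?_
      rw [frame]
      by_cases h : i = j
      · rw [if_pos h, if_pos h]; ring
      · rw [if_neg h, if_neg h]; ring
    rw [h3, Finset.sum_sub_distrib, Finset.sum_ite_eq, if_pos (Finset.mem_univ i), ← Finset.mul_sum, mat_mulVec, ha]
    ring
  rw [h2, tr_mat, u_sq hu]
  ring

/-- **`x · a x` is not constant on `X u`** -/
theorem not_const {a : Co0} (ha : a • u = u) {c : ℤ} (hc : c = 16 ∨ c = 8) (h : ∀ x ∈ X u, dt x (a • x) = c) : False := by
  have h1 := trace_sum hu ha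
  have hX : ∀ x ∈ X u, a • x ∈ X u := fun x hx => by
    refine ⟨by rw [dt_smul]; exact hx.1, ?_⟩
    have : u - a • x = a • (u - x) := by rw [co0_smul_sub, ha]
    rw [this, dt_smul]
    exact hx.2
  have h2 : ∑ x ∈ T hu, ∑ i, w u (a • x) i * w u x i = 552 * ((4 * c - 48 : ℤ) : ℚ) := by
    have h3 : ∀ x ∈ T hu, ∑ i, w u (a • x) i * w u x i = ((4 * c - 48 : ℤ) : ℚ) := by
      intro x hx
      have hx' := (mem_T hu).1 hx
      rw [w_dot, X_dot hu hx', X_dot hu (hX x hx'), hu, dt_comm, h x hx']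
      congr 1
      ring
    rw [Finset.sum_congr rfl h3, Finset.sum_const, T_card]
    norm_num
  rw [h2] at h1
  have h4 : 552 * (4 * c - 48) = 240 * (Cfsg.Agent.Co2Type.Mono.tr8 a - 8) := by exact_mod_cast h1
  rcases hc with rfl | rfl <;> omega

end Cfsg.Agent.H177.AACo3b
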