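import Cfsg.Agent.H177.AARow2
import Cfsg.Agent.H177.AACo3b
import Cfsg.Agent.SporRec.Co3.Model
import Cfsg.Agent.BpSpor.Row.Co3

/-!
# `AA` problem: `Co3` (helper177)
-/

set_option autoImplicit false

namespace Cfsg.Agent.H177.AACo3

open Subgroup Cfsg Cfsg.Agent.H177.AARow Cfsg.Agent.H460.AA Cfsg.Agent.H459.Rad Cfsg.Agent.H177.AACo3b
open Cfsg.Agent.SporadicStructure.Co0Base
open Cfsg.Agent.SporRec.Co3.Chain (G3)

theorem hu : dt Spor.leechV Spor.leechV = 48 := by
  unfold dt dotInt
  rw [Fintype.sum_option]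
  decide

theorem fix (g : G3) : (g : Co0) • Spor.leechV = Spor.leechV := g.2

theorem card_G3 : Nat.card G3 = 495766656000 := Cfsg.Agent.SporRec.Co3.Chain.isCo3_G3.2

theorem finG3 : Finite G3 := Nat.finite_of_card_ne_zero (by rw [card_G3]; norm_num)

/-- stabilisers in `G3` of vectors of the configuration are simple -/
theorem stab {x : leechLattice} (hx : x ∈ X Spor.leechV) :
    IsSimpleGroup ↥(MulAction.stabilizer G3 x) ∧ Nat.card ↥(MulAction.stabilizer G3 x) = 898128000 := by
  have h1 := Cfsg.Agent.S0404.result x (Spor.leechV - x) (by rw [← dt_self]; exact hx.1)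
    (by rw [← dt_self]; exact hx.2) (by
      change dt x (Spor.leechV - x) = -8
      rw [dt_sub_right, dt_comm, X_dot hu hx, hx.1]
      norm_num)
  have e : ↥(MulAction.stabilizer G3 x) ≃* ↥((MulAction.stabilizer G3 x).map G3.subtype) :=
    Subgroup.equivMapOfInjective _ _ Subtype.val_injective
  have h2 : (MulAction.stabilizer G3 x).map G3.subtype =
      MulAction.stabilizer Co0 x ⊓ MulAction.stabilizer Co0 (Spor.leechV - x) := by
    ext g
    constructor
    · rintro ⟨k, hk, rfl⟩
      have h3 : (k : Co0) • x = x := hk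
      refine ⟨h3, ?_⟩
      change (k : Co0) • (Spor.leechV - x) = Spor.leechV - x
      rw [co0_smul_sub, fix k, h3]
    · rintro ⟨h3, h4⟩
      have h3' : g • x = x := h3
      have h4' : g • (Spor.leechV - x) = Spor.leechV - x := h4
      rw [co0_smul_sub, h3'] at h4'
      have h5 : g • Spor.leechV = Spor.leechV := by
        have := congrArg (fun z => z + x) h4'
        simpa using this
      exact ⟨⟨g, h5⟩, h3, rfl⟩
  rw [h2] at e
  have := h1.1
  exact ⟨(MulEquiv.isSimpleGroup_congr e).2 h1.1, by rw [Nat.card_congr e.toEquiv]; exact h1.2⟩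

/-- transitivity on pairs with inner product `16` -/
theorem trans {x y x' y' : leechLattice} (hx : x ∈ X Spor.leechV) (hy : y ∈ X Spor.leechV) (hxy : dt x y = 16)
    (hx' : x' ∈ X Spor.leechV) (hy' : y' ∈ X Spor.leechV) (hxy' : dt x' y' = 16) : ∃ g : G3, g • x = x' ∧ g • y = y' := by
  have hn : sqNorm (Spor.leechV : GolayPt → ℤ) = 48 := by rw [← dt_self]; exact hu
  obtain ⟨g, hg1, hg2⟩ := Cfsg.Agent.S1579.result Spor.leechV x x' hn (by rw [X_eq] at hx; exact hx)
    (by rw [X_eq] at hx'; exact hx')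
  have hgy : g • y ∈ X Spor.leechV := by
    refine ⟨by rw [dt_smul]; exact hy.1, ?_⟩
    have : Spor.leechV - g • y = g • (Spor.leechV - y) := by rw [co0_smul_sub, hg1]
    rw [this, dt_smul]
    exact hy.2
  have h1 : dt x' (g • y) = 16 := by rw [← hg2, dt_smul]; exact hxy
  have hgy' := hgy
  have hy2 := hy'
  rw [X_eq] at hgy' hy2
  obtain ⟨k, hk1, hk2, hk3⟩ := (Cfsg.Agent.S1580.result Spor.leechV x' hn (by rw [X_eq] at hx'; exact hx')).2 (g • y)
    ⟨hgy'.1, hgy'.2, h1⟩ y' ⟨hy2.1, hy2.2, hxy'⟩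
  refine ⟨⟨k * g, by change (k * g) • Spor.leechV = Spor.leechV; rw [mul_smul, hg1, hk1]⟩, ?_, ?_⟩
  · change (k * g) • x = x'
    rw [mul_smul, hg2, hk2]
  · change (k * g) • y = y'
    rw [mul_smul, hk3]

theorem mem_X (g : G3) {x : leechLattice} (hx : x ∈ X Spor.leechV) : g • x ∈ X Spor.leechV := by
  refine ⟨?_, ?_⟩
  · change dt ((g : Co0) • x) ((g : Co0) • x) = 32
    rw [dt_smul]; exact hx.1
  · have : Spor.leechV - g • x = (g : Co0) • (Spor.leechV - x) := by rw [co0_smul_sub, fix]; rfl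
    rw [this, dt_smul]
    exact hx.2

/-- a point of an orbit of odd length -/
theorem fixed_of_sq {G α : Type*} [Group G] [MulAction G α] {g : G} (ho : Odd (orderOf g)) {x : α} (h : g • g • x = x) :
    g • x = x := by
  obtain ⟨k, hk⟩ := ho
  have h1 : g ^ (2 * k) • x = x := by
    rw [pow_mul]
    clear hk
    induction k with
    | zero => simp
    | succ k ih => rw [pow_succ, mul_smul, pow_two, mul_smul, h, ← pow_two, ih]
  have h2 : g ^ (2 * k + 1) = 1 := by rw [← hk, pow_orderOf_eq_one]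
  rw [pow_succ', ] at h2
  calc g • x = g • (g ^ (2 * k) • x) := by rw [h1]
    _ = (g * g ^ (2 * k)) • x := (mul_smul _ _ _).symm
    _ = x := by rw [h2, one_smul]

/-- **all odd primes at once** -/
theorem noA {p : ℕ} (hp : p.Prime) (hp2 : p ≠ 2) : NoA p G3 := by
  have hf : Finite G3 := finG3
  have hpf : Fact p.Prime := ⟨hp⟩
  intro a ha hR hP
  have hodd : Odd (orderOf a) := by rw [ha]; exact hp.odd_of_ne_two hp2
  -- no fixed vector
  have hfix : ∀ x ∈ X Spor.leechV, a • x ≠ x := by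
    intro x hx h
    obtain ⟨h1, h2⟩ := stab hx
    have hH : MulAction.stabilizer G3 x ≠ ⊤ := by
      intro ht
      rw [ht, Subgroup.card_top, card_G3] at h2
      norm_num at h2
    refine false_of_mem (a := a) ?_ hR hH (show a • x = x from h) ?_
    · rintro rfl
      rw [orderOf_one] at ha
      exact hp.one_lt.ne ha
    · refine rad_eq_bot_of_simple (Cfsg.Agent.H177.AARow2.not_solvable_of_card ?_)
      rw [h2]
      norm_num
  have hcase : ∀ x ∈ X Spor.leechV, dt x (a • x) = 16 ∨ dt x (a • x) = 8 := by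
    intro x hx
    rcases X_cases hu hx (mem_X a hx) with h | h | h | h
    · exact absurd h.symm (hfix x hx)
    · exfalso
      refine hfix x hx (fixed_of_sq hodd ?_)
      rw [h]
      have h3 : a • (Spor.leechV - x) = (a : Co0) • (Spor.leechV - x) := rfl
      rw [h3, co0_smul_sub, fix]
      have h4 : (a : Co0) • x = Spor.leechV - x := h
      rw [h4, sub_sub_cancel]
    · exact Or.inl h
    · exact Or.inr h
  by_cases hall : ∀ x ∈ X Spor.leechV, dt x (a • x) = 8
  · exact not_const hu (fix a) (Or.inr rfl) hall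
  push Not at hall
  obtain ⟨x, hx, hx8⟩ := hall
  have hx16 := (hcase x hx).resolve_right hx8
  by_cases hall' : ∀ y ∈ X Spor.leechV, dt y (a • y) = 16
  · exact not_const hu (fix a) (Or.inl rfl) hall'
  push Not at hall'
  obtain ⟨y, hy, hy16⟩ := hall'
  have hy8 := (hcase y hy).resolve_left hy16
  -- the contradiction
  have h1 : dt y (Spor.leechV - a⁻¹ • y) = 16 := by
    rw [dt_sub_right, dt_comm, X_dot hu hy]
    have h2 : dt y (a⁻¹ • y) = dt y (a • y) := by
      have h3 := dt_smul (a : Co0) y (a⁻¹ • y)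
      have h4 : (a : Co0) • (a⁻¹ • y) = y := smul_inv_smul a y
      rw [h4] at h3
      rw [← h3, dt_comm]
      rfl
    rw [h2, hy8]
    norm_num
  obtain ⟨g, hg1, hg2⟩ := trans hx (mem_X a hx) hx16 hy (X_compl (mem_X a⁻¹ hy)) h1
  set d := a * (g * a * g⁻¹) with hd
  have hd1 : d • y = Spor.leechV - y := by
    rw [hd, mul_smul, mul_smul, mul_smul]
    have e1 : g⁻¹ • y = x := by rw [← hg1, inv_smul_smul]
    rw [e1, hg2]
    have e2 : a • (Spor.leechV - a⁻¹ • y) = (a : Co0) • (Spor.leechV - a⁻¹ • y) := rfl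
    rw [e2, co0_smul_sub, fix]
    have e3 : (a : Co0) • (a⁻¹ • y) = y := smul_inv_smul a y
    rw [e3]
  have hd2 : d • d • y = y := by
    rw [hd1]
    have e2 : d • (Spor.leechV - y) = (d : Co0) • (Spor.leechV - y) := rfl
    have e3 : (d : Co0) • y = Spor.leechV - y := hd1
    rw [e2, co0_smul_sub, fix, e3, sub_sub_cancel]
  have hdo : Odd (orderOf d) := by
    obtain ⟨k, hk⟩ := hP g
    rw [← hd] at hk
    rw [hk]
    exact (hp.odd_of_ne_two hp2).pow
  have h5 := fixed_of_sq hdo hd2
  rw [hd1] at h5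
  exact X_ne hu hy h5

theorem core_co3 {K : Type*} [Group K] (h : Spor.IsoCo3 K) : Core K := by
  have hf : Finite K := Nat.finite_of_card_ne_zero (by
    rw [(Cfsg.Agent.BpSpor.Row.dat_co3 h).card]; norm_num)
  have e : K ≃* G3 := h.some.trans Cfsg.Agent.SporRec.Co3.Model.equivCo3.symm
  refine core_of_dat (Cfsg.Agent.BpSpor.Row.dat_co3 h) (l := [(2, 10), (3, 7), (5, 3), (7, 1), (11, 1), (23, 1)])
    (by decide +kernel) (by norm_num) (fun x _ hx2 hxp => ?_)
  exact (noA hxp hx2).of_equiv e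

end Cfsg.Agent.H177.AACo3
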