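import Cfsg.Agent.H177.AARow2
import Cfsg.Agent.H813.RadCo1
import Cfsg.Agent.LThreeCo1.Ranks
import Cfsg.Agent.H235.AA.Tools
import Cfsg.Agent.BpSpor.Row.Co1

/-!
# `AA` problem: `Co1` (helper177)

`p = 3, 5`: elements of order `p` commute with involutions, and `H813.RadCo1.false_of_inv`.  `p = 7`: as in
`H813.RadCo1.noRad_seven` (helper813).
-/

set_option autoImplicit false

namespace Cfsg.Agent.H177.AACo1

open Subgroup Cfsg Cfsg.Agent.H177.AARow Cfsg.Agent.H177.AARow2 Cfsg.Agent.H460.AA Cfsg.Agent.H459.Rad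
open Cfsg.Agent.H813.RadCo1
open Cfsg.Agent.LThreeCo1.Ev Cfsg.Agent.LThreeCo1.Class Cfsg.Agent.LThreeCo1.Rel Cfsg.Agent.LThreeCo1.AGrp
open Cfsg.Agent.CoOneType.ClosingFacts (mk_mul mk_inv exists_mk mk_eq_one mk_eq)
open Cfsg.Agent.SporadicA.Co0Mono (signCo0_mul_self signCo0)
open Cfsg.Agent.SporadicA.Co1Simple (allOne)
open Cfsg.Agent.CoOneType.SignFacts (sign_allOne_comm)

/-- the image in `Co1` -/
local notation "mc" => Cfsg.Agent.CoOneType.ClosingFacts.mk

/-- the action of a word on codes -/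
def fw (l : List ℕ) (n : ℕ) : ℕ := l.foldl (fun n g => ln (c g) n) n

theorem exists_word3 (l : List ℕ) (hl : ∀ g ∈ l, cj g = true) :
    ∃ y : Co0, ∀ n : ℕ, y * Ph a (vc n) * y⁻¹ = Ph a (vc (fw l n)) := by
  induction l with
  | nil => exact ⟨1, fun v => by simp [fw]⟩
  | cons g l ih =>
    obtain ⟨y, hy⟩ := ih fun x hx => hl x (List.mem_cons_of_mem _ hx)
    refine ⟨y * e g, fun n => ?_⟩
    change _ = Ph a (vc (fw l (ln (c g) n)))
    rw [← hy, ← cj_vc (hl g List.mem_cons_self) n]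
    group

theorem cube_ph (v : V) : Ph a v ^ 3 = 1 := hA.ph_cube v

theorem mk_inj3 {v w : V} (h : mc (Ph a v) = mc (Ph a w)) : v = w := by
  rcases (mk_eq _ _).1 h with h1 | h1
  · exact ph_inj h1
  · exfalso
    have h2 := cube_ph v
    rw [h1, (show Commute (Ph a w) (signCo0 allOne) from sign_allOne_comm (Ph a w)).mul_pow, cube_ph w, one_mul] at h2
    have h3 : signCo0 allOne ^ 3 = signCo0 allOne := by
      have h4 : signCo0 allOne * signCo0 allOne = 1 := signCo0_mul_self _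
      rw [pow_succ, pow_two, h4, one_mul]
    rw [h3] at h2
    exact Cfsg.Agent.LThreeBX.NoSeven.n_ne h2

/-- an involution commuting with the image of `Ph a (vc n₀)` -/
theorem exists_inv_of_word3 (l : List ℕ) (hl : ∀ g ∈ l, cj g = true) {n₀ n₁ : ℕ}
    (h0 : fw l n₀ = n₀) (h1 : vc (fw l n₁) ≠ vc n₁) (h2 : fw l (fw l n₁) = n₁) :
    ∃ t : Spor.Co1, orderOf t = 2 ∧ mc (Ph a (vc n₀)) * t = t * mc (Ph a (vc n₀)) := by
  obtain ⟨y, hy⟩ := exists_word3 l hl
  have hc : Commute (mc (Ph a (vc n₀))) (mc y) := by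
    have h3 := hy n₀
    rw [h0, mul_inv_eq_iff_eq_mul] at h3
    show mc (Ph a (vc n₀)) * mc y = mc y * mc (Ph a (vc n₀))
    rw [← mk_mul, ← mk_mul, h3]
  have hne : ¬ Commute (mc (Ph a (vc n₁))) (mc y) := by
    intro h3
    apply h1
    apply mk_inj3
    rw [← hy, mk_mul, mk_mul, mk_inv, ← h3.eq, mul_inv_cancel_right]
  have hsq : Commute (mc (Ph a (vc n₁))) (mc y ^ 2) := by
    have h3 : (y * y) * Ph a (vc n₁) * (y * y)⁻¹ = Ph a (vc n₁) := by
      have h4 := hy (fw l n₁)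
      rw [h2, ← hy] at h4
      calc (y * y) * Ph a (vc n₁) * (y * y)⁻¹ = y * (y * Ph a (vc n₁) * y⁻¹) * y⁻¹ := by group
        _ = Ph a (vc n₁) := h4
    rw [mul_inv_eq_iff_eq_mul] at h3
    show mc (Ph a (vc n₁)) * mc y ^ 2 = mc y ^ 2 * mc (Ph a (vc n₁))
    rw [pow_two, ← mk_mul, ← mk_mul, ← mk_mul, h3]
  have hev : 2 ∣ orderOf (mc y) := by
    by_contra ho
    apply hne
    have h3 : (mc y ^ 2) ^ ((orderOf (mc y) + 1) / 2) = mc y := by
      rw [← pow_mul, show 2 * ((orderOf (mc y) + 1) / 2) = orderOf (mc y) + 1 by omega, pow_succ, pow_orderOf_eq_one,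
        one_mul]
    rw [← h3]
    exact hsq.pow_right _
  obtain ⟨m, hm⟩ := hev
  have hpos : 0 < orderOf (mc y) := orderOf_pos _
  refine ⟨mc y ^ m, ?_, (hc.pow_right m).eq⟩
  rw [orderOf_pow' _ (by omega), hm, Nat.gcd_mul_left_left, Nat.mul_div_cancel _ (by omega)]

/-- elements commuting up to conjugation -/
theorem inv_of_conj {x y g : Spor.Co1} (hg : g * x * g⁻¹ = y) (h : ∃ t : Spor.Co1, orderOf t = 2 ∧ y * t = t * y) :
    ∃ t : Spor.Co1, orderOf t = 2 ∧ x * t = t * x := by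
  obtain ⟨t, ht, hyt⟩ := h
  subst hg
  refine ⟨g⁻¹ * t * g⁻¹⁻¹, by rw [← MulAut.conj_apply, MulEquiv.orderOf_eq, ht], ?_⟩
  calc x * (g⁻¹ * t * g⁻¹⁻¹) = g⁻¹ * ((g * x * g⁻¹) * t) * g := by group
    _ = g⁻¹ * (t * (g * x * g⁻¹)) * g := by rw [hyt]
    _ = g⁻¹ * t * g⁻¹⁻¹ * x := by group

/-- `e 8` commutes with `e 10`, which inverts `A` -/
theorem inv_e8 : ∃ t : Spor.Co1, orderOf t = 2 ∧ mc (e 8) * t = t * mc (e 8) := by
  have hc : Commute (mc (e 8)) (mc (e 10)) := by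
    show mc (e 8) * mc (e 10) = mc (e 10) * mc (e 8)
    rw [← mk_mul, ← mk_mul, kb.2.2.1]
  have h10 : mc (e 10) * mc (Ph a (vc 1)) * (mc (e 10))⁻¹ = mc (Ph a (-vc 1)) := by
    rw [← mk_inv, ← mk_mul, ← mk_mul, t_inv]
  have hne : ¬ Commute (mc (Ph a (vc 1))) (mc (e 10)) := by
    intro h3
    rw [← h3.eq, mul_inv_cancel_right] at h10
    have h4 := mk_inj3 h10
    revert h4
    decide +kernel
  have hsq : Commute (mc (Ph a (vc 1))) (mc (e 10) ^ 2) := by
    have h3 : e 10 * (e 10 * Ph a (vc 1) * (e 10)⁻¹) * (e 10)⁻¹ = Ph a (vc 1) := by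
      rw [t_inv, t_inv, neg_neg]
    have h4 : (e 10 * e 10) * Ph a (vc 1) = Ph a (vc 1) * (e 10 * e 10) := by
      calc (e 10 * e 10) * Ph a (vc 1) = (e 10 * (e 10 * Ph a (vc 1) * (e 10)⁻¹) * (e 10)⁻¹) * (e 10 * e 10) := by group
        _ = _ := by rw [h3]
    show mc (Ph a (vc 1)) * mc (e 10) ^ 2 = mc (e 10) ^ 2 * mc (Ph a (vc 1))
    rw [pow_two, ← mk_mul, ← mk_mul, ← mk_mul, h4]
  have hev : 2 ∣ orderOf (mc (e 10)) := by
    by_contra ho
    apply hne
    have h3 : (mc (e 10) ^ 2) ^ ((orderOf (mc (e 10)) + 1) / 2) = mc (e 10) := by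
      rw [← pow_mul, show 2 * ((orderOf (mc (e 10)) + 1) / 2) = orderOf (mc (e 10)) + 1 by omega, pow_succ,
        pow_orderOf_eq_one, one_mul]
    rw [← h3]
    exact hsq.pow_right _
  obtain ⟨m, hm⟩ := hev
  have hpos : 0 < orderOf (mc (e 10)) := orderOf_pos _
  refine ⟨mc (e 10) ^ m, ?_, (hc.pow_right m).eq⟩
  rw [orderOf_pow' _ (by omega), hm, Nat.gcd_mul_left_left, Nat.mul_div_cancel _ (by omega)]

/-- `e 8` and `e 29` are conjugate -/
theorem conj_e29 : e 27 * e 8 * (e 27)⁻¹ = e 29 := by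
  have h := eq_of_eqB rep k_27
  have hw : wd 0 = [] := by decide +kernel
  rw [hw] at h
  simp only [List.nil_append, List.cons_append, List.map_cons, List.map_nil, List.prod_cons, List.prod_nil, mul_one] at h
  rw [h]
  group

/-- **elements of order three commute with involutions** -/
theorem exists_inv_three {x : Spor.Co1} (hx : orderOf x = 3) : ∃ t : Spor.Co1, orderOf t = 2 ∧ x * t = t * x := by
  obtain ⟨c, hc, g, hg⟩ := Cfsg.Agent.LThreeCo1.Ranks.classes hx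
  refine inv_of_conj hg ?_
  have hcj : ∀ g, g = 7 ∨ g = 8 ∨ g = 9 ∨ g = 10 ∨ g = 11 → cj g = true := by
    rintro g (rfl | rfl | rfl | rfl | rfl)
    · exact k_7
    · exact k_8
    · exact k_9
    · exact k_10
    · exact k_11
  rcases hc with rfl | rfl | rfl | rfl
  · exact exists_inv_of_word3 [8, 7, 7, 11, 7, 11, 8, 8, 8, 7, 7, 11, 7, 11, 8, 8] (n₀ := 1) (n₁ := 3)
      (fun g hg => hcj g (by revert g; decide)) (by decide +kernel) (by decide +kernel) (by decide +kernel)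
  · exact exists_inv_of_word3 [9, 9, 11, 9, 11, 10, 8, 8, 7, 7, 8, 8] (n₀ := 79) (n₁ := 1)
      (fun g hg => hcj g (by revert g; decide)) (by decide +kernel) (by decide +kernel) (by decide +kernel)
  · refine inv_of_conj (g := mc (e 27)⁻¹) (y := mc (e 8)) ?_ inv_e8
    change mc (e 27)⁻¹ * mc (e 29) * (mc (e 27)⁻¹)⁻¹ = mc (e 8)
    rw [← mk_inv, ← mk_mul, ← mk_mul, ← conj_e29]
    congr 1
    group
  · exact exists_inv_of_word3 [11, 7, 9, 11, 9, 9, 8, 8] (n₀ := 4) (n₁ := 9)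
      (fun g hg => hcj g (by revert g; decide)) (by decide +kernel) (by decide +kernel) (by decide +kernel)

theorem three : NoA 3 Spor.Co1 := by
  intro x hx h _
  obtain ⟨t, ht, hxt⟩ := exists_inv_three hx
  exact false_of_inv Nat.prime_three (by norm_num) hx h ht hxt

theorem five : NoA 5 Spor.Co1 := by
  intro x hx h _
  obtain ⟨t, ht, hxt⟩ := exists_inv_five hx
  exact false_of_inv Nat.prime_five (by norm_num) hx h ht hxt

open Cfsg.Agent.H813.CoSevenMain Cfsg.Agent.H839.Rad in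
/-- as `noRad_seven` of helper813 -/
theorem seven : NoA 7 Spor.Co1 := by
  intro x hx h _
  have hp : Nat.Prime 7 := by norm_num
  have : Fact (Nat.Prime 7) := ⟨hp⟩
  -- a conjugate commutes with `pp`
  obtain ⟨x', hx', h', hc⟩ : ∃ x' : Spor.Co1, orderOf x' = 7 ∧ RC (MulAut.conj x') ∧ x' * pp = pp * x' := by
    have h1 : IsPGroup 7 ↥(zpowers x) := IsPGroup.of_card (n := 1) (by rw [Nat.card_zpowers, hx, pow_one])
    have h2 : IsPGroup 7 ↥(zpowers pp) := IsPGroup.of_card (n := 1) (by rw [Nat.card_zpowers, order_pp, pow_one])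
    obtain ⟨P, hP⟩ := h1.exists_le_sylow
    obtain ⟨P', hP'⟩ := h2.exists_le_sylow
    obtain ⟨g, hg⟩ := MulAction.exists_smul_eq Spor.Co1 P P'
    have h3 : g * x * g⁻¹ ∈ (P' : Subgroup Spor.Co1) := by
      rw [← hg, Sylow.coe_subgroup_smul]
      exact smul_mem_pointwise_smul x (MulAut.conj g) _ (hP (mem_zpowers x))
    refine ⟨g * x * g⁻¹, by rw [← MulAut.conj_apply, MulEquiv.orderOf_eq, hx], rc_conj h g, ?_⟩
    have h4 : Nat.card ↥(P' : Subgroup Spor.Co1) ∣ 7 ^ 2 := by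
      obtain ⟨n, hn⟩ := IsPGroup.iff_card.1 P'.isPGroup'
      have h5 : 7 ^ n ∣ Nat.card Spor.Co1 := hn ▸ card_subgroup_dvd_card _
      rw [Cfsg.Agent.S0399.result.2] at h5
      have h6 : n ≤ 2 := by
        by_contra h7
        have h8 : 7 ^ 3 ∣ 4157776806543360000 := (pow_dvd_pow 7 (by omega : 3 ≤ n)).trans h5
        revert h8
        norm_num
      rw [hn]
      exact pow_dvd_pow 7 h6
    have h5 := Cfsg.Agent.H813.CoSevenCard.comm_of_le hp h4 ⟨_, h3⟩ ⟨pp, hP' (mem_zpowers pp)⟩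
    exact congrArg Subtype.val h5
  -- it centralizes `BB`
  have hBt : BB ≠ ⊤ := by
    intro h1
    have h2 := card_BB
    rw [h1, Subgroup.card_top, Cfsg.Agent.S0399.result.2] at h2
    norm_num at h2
  have hcm : ∀ m ∈ BB, MulAut.conj x' m ∈ BB := fun m hm =>
    conj_mem_of_card BB_le BB_center (by rw [order_pp, card_BB]; exact card_cent_pp) hc hm
  have hrad : solvableRadical ↥BB = ⊥ := by
    refine rad_eq_bot_of_simple fun h1 => BB_not_comm ⟨⟨IsSimpleGroup.comm_iff_isSolvable.2 h1⟩⟩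
  obtain ⟨t, ht⟩ := exists_prime_orderOf_dvd_card' 2 (show 2 ∣ Nat.card ↥BB by rw [card_BB]; norm_num)
  have h2 := h'.eq_of_rad_eq_bot hBt hcm hrad t.2
  rw [MulAut.conj_apply, mul_inv_eq_iff_eq_mul] at h2
  exact false_of_inv hp (by norm_num) hx' h' (t := t) (by rw [Subgroup.orderOf_coe, ht]) h2

theorem core_co1 {K : Type*} [Group K] (h : Spor.IsoCo1 K) : Core K := by
  have D := Cfsg.Agent.BpSpor.Row.dat_co1 h
  have hf : Finite K := Nat.finite_of_card_ne_zero (by rw [D.card]; norm_num)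
  have e : K ≃* Spor.Co1 := h.some
  have hs := D.simple
  have hna := Cfsg.Agent.H235.AA.Tools.not_comm_of_card (K := K) (by rw [D.card]; norm_num)
  refine core_of_dat D (l := [(2, 21), (3, 9), (5, 4), (7, 2), (11, 1), (13, 1), (23, 1)])
    (by decide +kernel) (by norm_num) (fun x hx hx2 hp => ?_)
  have hpf : Fact x.1.Prime := ⟨hp⟩
  simp only [List.mem_cons, List.not_mem_nil, or_false] at hx
  rcases hx with rfl | rfl | rfl | rfl | rfl | rfl | rfl
  · exact absurd rfl hx2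
  · exact three.of_equiv e
  · exact five.of_equiv e
  · exact seven.of_equiv e
  · exact Cfsg.Agent.H235.AA.Tools.NP.of_not_sq hna hx2 (by rw [D.card]; norm_num)
  · exact Cfsg.Agent.H235.AA.Tools.NP.of_not_sq hna hx2 (by rw [D.card]; norm_num)
  · exact Cfsg.Agent.H235.AA.Tools.NP.of_not_sq hna hx2 (by rw [D.card]; norm_num)

end Cfsg.Agent.H177.AACo1
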