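import Cfsg.Agent.H177.AARow
import Cfsg.Agent.H177.AALin
import Cfsg.Agent.HN.U35
import Cfsg.Agent.BpSpor.Row.HS

/-!
# `AA` problem: the Higman-Sims group (helper177)
-/

set_option autoImplicit false

namespace Cfsg.Agent.H177.AAHS

open Subgroup Cfsg Cfsg.Agent.H177.AARow Cfsg.Agent.H460.AA Cfsg.Agent.H459.Rad

/-- elements of a subgroup of `Perm leechLattice` contained in `Co0` -/
theorem order_incl {H : Subgroup (Equiv.Perm leechLattice)} (hH : H ≤ Co0) (x : H) :
    orderOf (⟨x, hH x.2⟩ : Co0) = orderOf x := by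
  rw [← Subgroup.orderOf_coe x, Subgroup.orderOf_mk]

theorem HS_le : Spor.HS ≤ Co0 := fun _ hx => hx.1.1

theorem leechV_ne : Spor.leechV ≠ 0 := by
  intro h
  have h1 := congrFun (congrArg Subtype.val h) none
  revert h1
  decide

theorem HS_fix (x : Spor.HS) : (⟨x, HS_le x.2⟩ : Co0) • Spor.leechV = Spor.leechV := x.2.1.2

/-- non-adjacent pairs of primes in `HS` -/
theorem ncomm {x y : Spor.HS} {p q : ℕ} (h : (p = 3 ∧ q = 11) ∨ (p = 7 ∧ q = 11) ∨ (p = 5 ∧ q = 7)) (hx : orderOf x = p)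
    (hy : orderOf y = q) : x * y ≠ y * x := by
  intro hc
  have hx' := order_incl HS_le x
  have hy' := order_incl HS_le y
  rw [hx] at hx'
  rw [hy] at hy'
  have hc' : (⟨x, HS_le x.2⟩ : Co0) * ⟨y, HS_le y.2⟩ = ⟨y, HS_le y.2⟩ * ⟨x, HS_le x.2⟩ :=
    Subtype.ext (congrArg (fun z : Spor.HS => (z : Equiv.Perm leechLattice)) hc)
  rcases h with ⟨rfl, rfl⟩ | ⟨rfl, rfl⟩ | ⟨rfl, rfl⟩
  · exact Cfsg.Agent.H177.AALin.not_comm_three_eleven leechV_ne (HS_fix x) hx' hy' hc'
  · exact Cfsg.Agent.H149.Sp.co0_not_comm (Or.inr (Or.inl rfl)) (Or.inr (Or.inr (Or.inl rfl))) (by norm_num) (by norm_num)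
      hx' hy' hc'
  · exact Cfsg.Agent.H149.Sp.co0_not_comm_fix leechV_ne (HS_fix x) (HS_fix y) hx' hy' hc'

open Cfsg.Agent.HN.HS100 Cfsg.Agent.HN.AutHS

theorem ncommQ {x y : Q} {p q : ℕ} (h : (p = 3 ∧ q = 11) ∨ (p = 7 ∧ q = 11) ∨ (p = 5 ∧ q = 7)) (hx : orderOf x = p)
    (hy : orderOf y = q) : x * y ≠ y * x := by
  obtain ⟨f⟩ := nonempty_Q.1
  intro hc
  exact ncomm h (by rw [← hx]; exact orderOf_injective f.toMonoidHom f.injective x)
    (by rw [← hy]; exact orderOf_injective f.toMonoidHom f.injective y) (by rw [← map_mul, hc, map_mul])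

theorem finQ : Finite Q := Nat.finite_of_card_ne_zero (by rw [Cfsg.Agent.HN.AutBound.card_Q]; norm_num)

/-- the point stabiliser -/
def St : Subgroup Q := MulAction.stabilizer Q (0 : Fin 100)

theorem index_St : St.index = 100 := by
  have := trans_Q
  have h := MulAction.index_stabilizer_of_transitive Q (0 : Fin 100)
  rw [Nat.card_eq_fintype_card, Fintype.card_fin] at h
  exact h

theorem card_St : Nat.card St = 443520 := by
  have h := St.card_mul_index
  rw [index_St, Cfsg.Agent.HN.AutBound.card_Q] at h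
  omega

theorem St_ne : St ≠ ⊤ := by
  intro h
  have h1 := index_St
  rw [h, Subgroup.index_top] at h1
  norm_num at h1

/-- the subgroup `U3(5)` -/
def Un : Subgroup Q := Cfsg.Agent.HN.U35.U0.subgroupOf Q

theorem U0_le : Cfsg.Agent.HN.U35.U0 ≤ Q := by
  rw [Cfsg.Agent.HN.U35.U0_eq]
  exact fun x hx => hx.1

theorem card_Un : Nat.card Un = 126000 := by
  rw [← Cfsg.Agent.HN.U35.card_U0]
  exact Nat.card_congr (Subgroup.subgroupOfEquivOfLe U0_le).toEquiv

theorem index_Un : Un.index = 352 := by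
  have h := Un.card_mul_index
  rw [card_Un, Cfsg.Agent.HN.AutBound.card_Q] at h
  omega

theorem Un_ne : Un ≠ ⊤ := by
  intro h
  have h1 := index_Un
  rw [h, Subgroup.index_top] at h1
  norm_num at h1

theorem three : NoA 3 Q := by
  have := finQ
  refine noA_two_primes (r := 11) (by norm_num) (by norm_num) (fun x y hx hy => ncommQ (Or.inl ⟨rfl, rfl⟩) hx hy) 2 1
    ?_ (by decide) ?_ (by decide) St_ne ?_ ?_
  · rw [Cfsg.Agent.HN.AutBound.card_Q]; norm_num
  · rw [Cfsg.Agent.HN.AutBound.card_Q]; norm_num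
  · rw [card_St]; norm_num
  · rw [index_St]; norm_num

theorem seven : NoA 7 Q := by
  have := finQ
  refine noA_two_primes (r := 11) (by norm_num) (by norm_num) (fun x y hx hy => ncommQ (Or.inr (Or.inl ⟨rfl, rfl⟩)) hx hy)
    1 1 ?_ (by decide) ?_ (by decide) St_ne ?_ ?_
  · rw [Cfsg.Agent.HN.AutBound.card_Q]; norm_num
  · rw [Cfsg.Agent.HN.AutBound.card_Q]; norm_num
  · rw [card_St]; norm_num
  · rw [index_St]; norm_num

theorem eleven : NoA 11 Q := by
  have := finQ
  refine noA_two_primes (r := 7) (by norm_num) (by norm_num)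
    (fun x y hx hy => (ncommQ (Or.inr (Or.inl ⟨rfl, rfl⟩)) hy hx).symm)
    1 1 ?_ (by decide) ?_ (by decide) St_ne ?_ ?_
  · rw [Cfsg.Agent.HN.AutBound.card_Q]; norm_num
  · rw [Cfsg.Agent.HN.AutBound.card_Q]; norm_num
  · rw [card_St]; norm_num
  · rw [index_St]; norm_num

theorem five : NoA 5 Q := by
  have := finQ
  refine noA_two_primes (r := 7) (by norm_num) (by norm_num)
    (fun x y hx hy => (ncommQ (Or.inr (Or.inr ⟨rfl, rfl⟩)) hx hy))
    3 1 ?_ (by decide) ?_ (by decide) Un_ne ?_ ?_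
  · rw [Cfsg.Agent.HN.AutBound.card_Q]; norm_num
  · rw [Cfsg.Agent.HN.AutBound.card_Q]; norm_num
  · rw [card_Un]; norm_num
  · rw [index_Un]; norm_num

theorem core_hs {K : Type*} [Group K] (h : Spor.IsoHS K) : Core K := by
  have hf : Finite K := Nat.finite_of_card_ne_zero (by
    rw [(Cfsg.Agent.BpSpor.Row.dat_hs h).card]; norm_num)
  obtain ⟨f⟩ := nonempty_Q.1
  have e : K ≃* Q := h.some.trans f.symm
  refine core_of_dat (Cfsg.Agent.BpSpor.Row.dat_hs h) (l := [(2, 9), (3, 2), (5, 3), (7, 1), (11, 1)])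
    (by decide +kernel) (by norm_num) (fun x hx hx2 _ => ?_)
  simp only [List.mem_cons, List.not_mem_nil, or_false] at hx
  rcases hx with rfl | rfl | rfl | rfl | rfl
  · exact absurd rfl hx2
  · exact three.of_equiv e
  · exact five.of_equiv e
  · exact seven.of_equiv e
  · exact eleven.of_equiv e

end Cfsg.Agent.H177.AAHS
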