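import Cfsg.Agent.H383.Cube.Basic
import Cfsg.Agent.H525.AltK
import Cfsg.Agent.UAlt.AutFive

/-!
# The cube bound for the alternating groups (helper177, for S5721/S5718)

`cube_alt`: `|A_n| < |C_{A_n}(α)| ^ 3` for every automorphism `α` of order two, `n ≥ 5`.
-/

set_option autoImplicit false

open Equiv Equiv.Perm Subgroup Nat

namespace Cfsg.Agent.H177.CubeAlt

open Cfsg.Agent.H383.Cube

/-- the inequality between the orders -/
theorem ineq : ∀ n k : ℕ, 5 ≤ n → 1 ≤ k → 2 * k ≤ n → 4 * n ! < (2 ^ k * k ! * (n - 2 * k)!) ^ 3 := by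
  intro n
  induction n using Nat.strong_induction_on with
  | _ n ih =>
    intro k h5 hk hkn
    rcases Nat.lt_or_ge n 7 with h7 | h7
    · interval_cases n
      · have hk' : k ≤ 2 := by omega
        interval_cases k <;> decide
      · have hk' : k ≤ 3 := by omega
        interval_cases k <;> decide
    · obtain ⟨m, hm⟩ : ∃ m, n = 2 * k + m := ⟨n - 2 * k, by omega⟩
      have hm' : n - 2 * k = m := by omega
      rw [hm']
      by_cases hc : n ≤ m ^ 3
      · have hm1 : 1 ≤ m := by
          rcases Nat.eq_zero_or_pos m with h0 | h0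
          · rw [h0] at hc; norm_num at hc; omega
          · exact h0
        obtain ⟨j, rfl⟩ : ∃ j, m = j + 1 := ⟨m - 1, by omega⟩
        obtain ⟨n', rfl⟩ : ∃ n', n = n' + 1 := ⟨n - 1, by omega⟩
        have h1 := ih n' (by omega) k (by omega) hk (by omega)
        have h2 : n' - 2 * k = j := by omega
        rw [h2] at h1
        calc 4 * (n' + 1)! = (n' + 1) * (4 * n' !) := by rw [Nat.factorial_succ]; ring
          _ < (n' + 1) * (2 ^ k * k ! * j !) ^ 3 := Nat.mul_lt_mul_of_pos_left h1 (by omega)
          _ ≤ (j + 1) ^ 3 * (2 ^ k * k ! * j !) ^ 3 := Nat.mul_le_mul_right _ hc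
          _ = (2 ^ k * k ! * (j + 1)!) ^ 3 := by rw [Nat.factorial_succ]; ring
      · push Not at hc
        have hk2 : 2 ≤ k := by
          by_contra hk2
          have : k = 1 := by omega
          subst this
          have h3 : n ≤ m ^ 3 := by
            have h4 : 5 ≤ m := by omega
            calc n = m + 2 := by omega
              _ ≤ m * (5 * 5) := by omega
              _ ≤ m * (m * m) := Nat.mul_le_mul_left _ (Nat.mul_le_mul h4 h4)
              _ = m ^ 3 := by ring
          omega
        obtain ⟨k', rfl⟩ : ∃ k', k = k' + 1 := ⟨k - 1, by omega⟩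
        obtain ⟨n', rfl⟩ : ∃ n', n = n' + 2 := ⟨n - 2, by omega⟩
        have h1 := ih n' (by omega) k' (by omega) (by omega) (by omega)
        have h2 : n' - 2 * k' = m := by omega
        rw [h2] at h1
        -- the key inequality
        have h3 : (n' + 2) * (n' + 1) ≤ (2 * (k' + 1)) ^ 3 := by
          have h4 : 2 * m ≤ n' + 2 := by
            by_contra h4
            push Not at h4
            have h5' : 4 ≤ m := by omega
            have : n' + 2 ≤ m ^ 3 := by
              calc n' + 2 ≤ m * (4 * 4) := by omega
                _ ≤ m * (m * m) := Nat.mul_le_mul_left _ (Nat.mul_le_mul h5' h5')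
                _ = m ^ 3 := by ring
            omega
          rcases Nat.lt_or_ge n' 6 with h6 | h6
          · have h7' : n' = 5 := by omega
            subst h7'
            have h8 : m ≤ 1 := by
              by_contra h8
              push Not at h8
              have : 2 ^ 3 ≤ m ^ 3 := Nat.pow_le_pow_left h8 3
              omega
            have h9 : k' + 1 = 3 := by omega
            rw [h9]
            norm_num
          · have h8 : n' + 2 ≤ 2 * (2 * (k' + 1)) := by omega
            have h9 : (n' + 2) ^ 3 ≤ 8 * (2 * (k' + 1)) ^ 3 := by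
              calc (n' + 2) ^ 3 ≤ (2 * (2 * (k' + 1))) ^ 3 := Nat.pow_le_pow_left h8 3
                _ = 8 * (2 * (k' + 1)) ^ 3 := by ring
            have h10 : 8 * ((n' + 2) * (n' + 1)) ≤ (n' + 2) ^ 3 := by
              calc 8 * ((n' + 2) * (n' + 1)) ≤ (n' + 2) * ((n' + 2) * (n' + 1)) :=
                    Nat.mul_le_mul_right _ (by omega)
                _ ≤ (n' + 2) * ((n' + 2) * (n' + 2)) :=
                    Nat.mul_le_mul_left _ (Nat.mul_le_mul_left _ (by omega))
                _ = (n' + 2) ^ 3 := by ring
            omega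
        calc 4 * (n' + 2)! = ((n' + 2) * (n' + 1)) * (4 * n' !) := by
              rw [Nat.factorial_succ, Nat.factorial_succ]; ring
          _ < ((n' + 2) * (n' + 1)) * (2 ^ k' * k' ! * m !) ^ 3 := Nat.mul_lt_mul_of_pos_left h1 (by positivity)
          _ ≤ (2 * (k' + 1)) ^ 3 * (2 ^ k' * k' ! * m !) ^ 3 := Nat.mul_le_mul_right _ h3
          _ = (2 ^ (k' + 1) * (k' + 1)! * m !) ^ 3 := by rw [Nat.factorial_succ]; ring

/-- the order of the centralizer of an involution of the symmetric group -/
theorem card_centralizer {n : ℕ} (s : Perm (Fin n)) (hs : s * s = 1) (hs1 : s ≠ 1) :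
    ∃ k, 1 ≤ k ∧ 2 * k ≤ n ∧ Nat.card (centralizer ({s} : Set (Perm (Fin n)))) = 2 ^ k * k ! * (n - 2 * k)! := by
  have ho : orderOf s = 2 := orderOf_eq_prime (by rw [sq, hs]) hs1
  obtain ⟨k, hk⟩ := cycleType_prime_order (σ := s) (by rw [ho]; exact Nat.prime_two)
  rw [ho] at hk
  refine ⟨k + 1, by omega, ?_, ?_⟩
  · have h1 := sum_cycleType_le s
    rw [hk, Multiset.sum_replicate, Fintype.card_fin, smul_eq_mul] at h1
    omega
  · rw [nat_card_centralizer, hk, Multiset.sum_replicate, Multiset.prod_replicate, Fintype.card_fin, smul_eq_mul]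
    have h2 : (Multiset.replicate (k + 1) 2).toFinset = {2} := by
      ext x
      rw [Multiset.mem_toFinset, Multiset.mem_replicate, Finset.mem_singleton]
      exact ⟨fun h => h.2, fun h => ⟨by omega, h⟩⟩
    rw [h2, Finset.prod_singleton, Multiset.count_replicate_self, Nat.mul_comm (k + 1) 2]
    ring

/-- **The cube bound for the alternating groups.** -/
theorem cube_alt (n : ℕ) (hn : 5 ≤ n) : CubeBound (alternatingGroup (Fin n)) := by
  by_cases h6 : n = 6
  · subst h6
    refine CubeBound.of_card_conjClasses Cfsg.Agent.H525.AltK.alt_six ?_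
    rw [nat_card_alternatingGroup, Nat.card_eq_fintype_card, Fintype.card_fin]
    decide
  intro α hα
  obtain ⟨ψ, hψ⟩ := Cfsg.Agent.UAlt.AutFive.exists_autHom_fin n hn h6
  have hs : ψ α * ψ α = 1 := by rw [← map_mul, mul_self_of_order hα, map_one]
  have hs1 : ψ α ≠ 1 := by
    intro h
    have h1 : α = 1 := by
      ext x : 2
      rw [hψ, h]
      simp
    rw [h1, orderOf_one] at hα
    omega
  obtain ⟨k, hk, hkn, hc⟩ := card_centralizer (ψ α) hs hs1
  have : Nontrivial (Fin n) := Fin.nontrivial_iff_two_le.2 (by omega)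
  -- the fixed points of α
  have h1 : Nat.card {t : alternatingGroup (Fin n) // α t = t} =
      Nat.card ((alternatingGroup (Fin n)).subgroupOf (centralizer ({ψ α} : Set (Perm (Fin n))))) := by
    apply Nat.card_congr
    exact
      { toFun := fun x => ⟨⟨((x : alternatingGroup (Fin n)) : Perm (Fin n)), by
          rw [mem_centralizer_singleton_iff]
          have h := hψ α x
          rw [x.2] at h
          exact (eq_mul_inv_iff_mul_eq.1 h)⟩, (x : alternatingGroup (Fin n)).2⟩
        invFun := fun x => ⟨⟨(x : centralizer ({ψ α} : Set (Perm (Fin n)))), x.2⟩, by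
          apply Subtype.ext
          rw [hψ]
          have h := mem_centralizer_singleton_iff.1 (x : centralizer ({ψ α} : Set (Perm (Fin n)))).2
          rw [mul_inv_eq_iff_eq_mul]
          exact h.symm⟩
        left_inv := fun x => rfl
        right_inv := fun x => rfl }
  have h2 : Nat.card (centralizer ({ψ α} : Set (Perm (Fin n)))) ≤
      2 * Nat.card {t : alternatingGroup (Fin n) // α t = t} := by
    have e1 : (alternatingGroup (Fin n)).relIndex (centralizer ({ψ α} : Set (Perm (Fin n)))) ∣ 2 := by
      have := Subgroup.relIndex_dvd_index_of_normal (alternatingGroup (Fin n))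
        (centralizer ({ψ α} : Set (Perm (Fin n))))
      rwa [alternatingGroup.index_eq_two] at this
    have e2 := Nat.le_of_dvd (by norm_num) e1
    have e3 := Subgroup.card_mul_index ((alternatingGroup (Fin n)).subgroupOf
      (centralizer ({ψ α} : Set (Perm (Fin n)))))
    rw [← h1] at e3
    rw [Subgroup.relIndex] at e2
    rw [← e3, Nat.mul_comm]
    exact Nat.mul_le_mul_right _ e2
  have h3 := ineq n k hn hk hkn
  rw [← hc] at h3
  have h4 : 2 * Nat.card (alternatingGroup (Fin n)) = n ! := by
    have := two_mul_nat_card_alternatingGroup (α := Fin n)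
    rw [this, Nat.card_perm, Nat.card_eq_fintype_card, Fintype.card_fin]
  have h5 : Nat.card (centralizer ({ψ α} : Set (Perm (Fin n)))) ^ 3 ≤
      (2 * Nat.card {t : alternatingGroup (Fin n) // α t = t}) ^ 3 := Nat.pow_le_pow_left h2 3
  rw [mul_pow] at h5
  omega

end Cfsg.Agent.H177.CubeAlt
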